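import Groth.Prelude.Def_GLin6
import Mathlib

/-!
Matrix corepresentations of a commutative bialgebra and the comodule algebra structure they
induce on a polynomial ring (helper83, Weitzenboeck row).
-/

set_option autoImplicit false
universe u v w w'

namespace Groth.Agent.H83.Weitz

open TensorProduct MvPolynomial

section Corep

variable {k : Type u} [CommRing k] {A : Type v} [CommRing A] [Bialgebra k A]
variable {I : Type w} [Fintype I] [DecidableEq I]

/-- A matrix corepresentation of the bialgebra `A` indexed by `I`. -/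
structure IsCorep (c : I → I → A) : Prop where
  comul : ∀ l m, CoalgebraStruct.comul (R := k) (c l m) = ∑ j, c l j ⊗ₜ[k] c j m
  counit : ∀ l m, CoalgebraStruct.counit (R := k) (c l m) = if l = m then (1 : k) else 0

variable (k) in
/-- The coaction on the polynomial ring attached to a matrix of elements of `A`. -/
noncomputable def corepAlg (c : I → I → A) : MvPolynomial I k →ₐ[k] MvPolynomial I k ⊗[k] A :=
  aeval fun m => ∑ l, X l ⊗ₜ[k] c l m

@[simp] theorem corepAlg_X (c : I → I → A) (m : I) :
    corepAlg k c (X m) = ∑ l, X l ⊗ₜ[k] c l m := by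
  simp [corepAlg]

theorem corepAlg_coassoc {c : I → I → A} (hc : IsCorep (k := k) c) :
    (Algebra.TensorProduct.assoc k k k (MvPolynomial I k) A A).toAlgHom.comp
        ((Algebra.TensorProduct.map (corepAlg k c) (AlgHom.id k A)).comp (corepAlg k c)) =
      (Algebra.TensorProduct.map (AlgHom.id k _) (Bialgebra.comulAlgHom k A)).comp (corepAlg k c) := by
  apply MvPolynomial.algHom_ext
  intro i
  simp only [AlgHom.comp_apply, corepAlg_X, map_sum, Algebra.TensorProduct.map_tmul, AlgHom.id_apply,
    AlgHom.coe_coe, TensorProduct.sum_tmul, TensorProduct.tmul_sum, Algebra.TensorProduct.assoc_tmul,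
    Bialgebra.comulAlgHom_apply, hc.comul]
  exact Finset.sum_comm

theorem corepAlg_counit {c : I → I → A} (hc : IsCorep (k := k) c) :
    (Algebra.TensorProduct.rid k k (MvPolynomial I k)).toAlgHom.comp
        ((Algebra.TensorProduct.map (AlgHom.id k _) (Bialgebra.counitAlgHom k A)).comp (corepAlg k c)) =
      AlgHom.id k _ := by
  apply MvPolynomial.algHom_ext
  intro i
  simp [Bialgebra.counitAlgHom_apply, hc.counit, Finset.sum_ite_eq', tmul_ite]

/-- The comodule structure on the polynomial ring attached to a matrix corepresentation. -/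
@[reducible] noncomputable def corepComod (c : I → I → A) (hc : IsCorep (k := k) c) :
    HopfRep.Comod k A (MvPolynomial I k) where
  coact := (corepAlg k c).toLinearMap
  coassoc := by
    refine LinearMap.ext fun p => ?_
    exact congrArg (fun φ => φ p) (corepAlg_coassoc hc)
  counit_comp := by
    refine LinearMap.ext fun p => ?_
    have h' : (Algebra.TensorProduct.rid k k (MvPolynomial I k))
        (LinearMap.lTensor (MvPolynomial I k) (CoalgebraStruct.counit (R := k) (A := A))
          (corepAlg k c p)) = p := congrArg (fun φ => φ p) (corepAlg_counit hc)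
    apply (Algebra.TensorProduct.rid k k (MvPolynomial I k)).injective
    simpa using h'

theorem corepComod_coact (c : I → I → A) (hc : IsCorep (k := k) c) (p : MvPolynomial I k) :
    (corepComod c hc).coact p = corepAlg k c p := rfl

theorem corepComod_isCoactAlg (c : I → I → A) (hc : IsCorep (k := k) c) :
    @GLin.IsCoactAlg k _ A _ _ (MvPolynomial I k) _ _ (corepComod c hc) :=
  @GLin.IsCoactAlg.mk k _ A _ _ (MvPolynomial I k) _ _ (corepComod c hc)
    (by change corepAlg k c 1 = 1; exact map_one _)
    (fun f g => by change corepAlg k c (f * g) = corepAlg k c f * corepAlg k c g; exact map_mul _ _ _)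

/-- Pushing a corepresentation along a bialgebra map. -/
theorem IsCorep.map {B : Type v} [CommRing B] [Bialgebra k B] (φ : A →ₐc[k] B) {c : I → I → A}
    (hc : IsCorep (k := k) c) : IsCorep (k := k) (fun l m => φ (c l m)) where
  comul l m := by
    have h := CoalgHomClass.map_comp_comul (R := k) φ
    have h2 := congrArg (fun f => f (c l m)) h
    simp only [LinearMap.comp_apply] at h2
    erw [← h2]
    rw [hc.comul]
    simp
  counit l m := by
    have h := CoalgHomClass.counit_comp (R := k) φ
    have h2 := congrArg (fun f => f (c l m)) h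
    simp only [LinearMap.comp_apply] at h2
    erw [h2]
    exact hc.counit l m

end Corep

section More

variable {k : Type u} [CommRing k] {A : Type v} [CommRing A] [Bialgebra k A]

theorem corepAlg_map {I : Type w} [Fintype I] [DecidableEq I] {B : Type v} [CommRing B] [Bialgebra k B]
    (φ : A →ₐ[k] B) (c : I → I → A) :
    (Algebra.TensorProduct.map (AlgHom.id k (MvPolynomial I k)) φ).comp (corepAlg k c) =
      corepAlg k (fun l m => φ (c l m)) := by
  apply MvPolynomial.algHom_ext
  intro m
  simp [corepAlg_X]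

theorem corepAlg_map_apply {I : Type w} [Fintype I] [DecidableEq I] {B : Type v} [CommRing B] [Bialgebra k B]
    (φ : A →ₐ[k] B) (c : I → I → A) (f : MvPolynomial I k) :
    (Algebra.TensorProduct.map (AlgHom.id k (MvPolynomial I k)) φ) (corepAlg k c f) =
      corepAlg k (fun l m => φ (c l m)) f :=
  congrArg (fun ψ => ψ f) (corepAlg_map φ c)

theorem IsCorep.reindex {I : Type w} [Fintype I] [DecidableEq I] {I' : Type w'} [Fintype I']
    [DecidableEq I'] (e : I' ≃ I) {c : I → I → A} (hc : IsCorep (k := k) c) :
    IsCorep (k := k) (fun l m => c (e l) (e m)) where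
  comul l m := by
    rw [hc.comul]
    exact (Equiv.sum_comp e (fun j => c (e l) j ⊗ₜ[k] c j (e m))).symm
  counit l m := by
    rw [hc.counit]
    by_cases h : l = m
    · subst h; simp
    · have : e l ≠ e m := fun h' => h (e.injective h')
      simp [h, this]

section Sum

variable {I₁ : Type w} {I₂ : Type w'} [Fintype I₁] [DecidableEq I₁] [Fintype I₂] [DecidableEq I₂]

/-- Block sum of two matrices of elements of `A`. -/
def sumCorep (c₁ : I₁ → I₁ → A) (c₂ : I₂ → I₂ → A) : (I₁ ⊕ I₂) → (I₁ ⊕ I₂) → A
  | Sum.inl l, Sum.inl m => c₁ l m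
  | Sum.inr l, Sum.inr m => c₂ l m
  | Sum.inl _, Sum.inr _ => 0
  | Sum.inr _, Sum.inl _ => 0

theorem IsCorep.sum {c₁ : I₁ → I₁ → A} {c₂ : I₂ → I₂ → A} (h₁ : IsCorep (k := k) c₁)
    (h₂ : IsCorep (k := k) c₂) : IsCorep (k := k) (sumCorep c₁ c₂) where
  comul l m := by
    rw [Fintype.sum_sum_type]
    rcases l with l | l <;> rcases m with m | m <;> simp [sumCorep, h₁.comul, h₂.comul]
  counit l m := by
    rcases l with l | l <;> rcases m with m | m <;> simp [sumCorep, h₁.counit, h₂.counit]

end Sum

section Sigma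

variable {ι : Type w} [Fintype ι] [DecidableEq ι] {J : ι → Type w'} [∀ i, Fintype (J i)]
  [∀ i, DecidableEq (J i)]

/-- Block diagonal matrix of elements of `A` on a sigma type. -/
def sigmaCorep (c : ∀ i, J i → J i → A) : (Σ i, J i) → (Σ i, J i) → A :=
  fun x y => if h : x.1 = y.1 then c y.1 (h ▸ x.2) y.2 else 0

theorem sigmaCorep_same (c : ∀ i, J i → J i → A) (i : ι) (l m : J i) :
    sigmaCorep c ⟨i, l⟩ ⟨i, m⟩ = c i l m := by
  simp [sigmaCorep]

theorem sigmaCorep_ne (c : ∀ i, J i → J i → A) {x y : Σ i, J i} (h : x.1 ≠ y.1) :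
    sigmaCorep c x y = 0 := by
  simp [sigmaCorep, h]

theorem IsCorep.sigma {c : ∀ i, J i → J i → A} (hc : ∀ i, IsCorep (k := k) (c i)) :
    IsCorep (k := k) (sigmaCorep c) where
  comul x y := by
    obtain ⟨i, l⟩ := x
    obtain ⟨i', m⟩ := y
    rw [Fintype.sum_sigma]
    by_cases h : i = i'
    · subst h
      rw [sigmaCorep_same, (hc i).comul, Finset.sum_eq_single i]
      · simp only [sigmaCorep_same]
      · intro i'' _ hi''
        refine Finset.sum_eq_zero fun j _ => ?_
        rw [sigmaCorep_ne c (x := ⟨i, l⟩) (y := ⟨i'', j⟩) (Ne.symm hi''), TensorProduct.zero_tmul]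
      · intro h; exact absurd (Finset.mem_univ i) h
    · rw [sigmaCorep_ne c (x := ⟨i, l⟩) (y := ⟨i', m⟩) h, map_zero]
      symm
      refine Finset.sum_eq_zero fun i'' _ => Finset.sum_eq_zero fun j _ => ?_
      by_cases h2 : i = i''
      · subst h2
        rw [sigmaCorep_ne c (x := ⟨i, j⟩) (y := ⟨i', m⟩) h, TensorProduct.tmul_zero]
      · rw [sigmaCorep_ne c (x := ⟨i, l⟩) (y := ⟨i'', j⟩) h2, TensorProduct.zero_tmul]
  counit x y := by
    obtain ⟨i, l⟩ := x
    obtain ⟨i', m⟩ := y
    by_cases h : i = i'
    · subst h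
      rw [sigmaCorep_same, (hc i).counit]
      by_cases hlm : l = m
      · subst hlm; simp
      · have : (⟨i, l⟩ : Σ i, J i) ≠ ⟨i, m⟩ := fun e => hlm (by cases e; rfl)
        simp [hlm, this]
    · rw [sigmaCorep_ne c (x := ⟨i, l⟩) (y := ⟨i', m⟩) h, map_zero]
      have : (⟨i, l⟩ : Σ i, J i) ≠ ⟨i', m⟩ := fun e => h (by cases e; rfl)
      simp [this]

end Sigma

end More

end Groth.Agent.H83.Weitz
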