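import Groth.Agent.H83.Weitz.Ga
import Groth.Agent.H83.HM.Coef
import Mathlib

/-!
The corepresentation of the matrix monoid on binary forms and its infinitesimal generator for the
additive group (helper83, Weitzenboeck row).
-/

set_option autoImplicit false
universe u

namespace Groth.Agent.H83.Weitz

open TensorProduct CoordGrp Groth.Agent.H83.HM

section Binary

variable {k : Type u} [Field k]

theorem isCorep_formCoeff (d : ℕ) : IsCorep (k := k) (formCoeff k 2 d) where
  comul l m := comul_formCoeff d l m
  counit l m := by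
    rw [counit_formCoeff]

/-- The substitution `x₀ ↦ x₀`, `x₁ ↦ t x₀ + x₁` on a monomial. -/
lemma substHom_uMat_monomial (s : Fin 2 →₀ ℕ) :
    substHom k (!![1, Polynomial.X; 0, 1] : Matrix (Fin 2) (Fin 2) (Polynomial k))
      (MvPolynomial.monomial s 1) =
      MvPolynomial.X 0 ^ s 0 *
        (MvPolynomial.C Polynomial.X * MvPolynomial.X 0 + MvPolynomial.X 1) ^ s 1 := by
  rw [MvPolynomial.monomial_eq, MvPolynomial.C_1, one_mul,
    Finsupp.prod_fintype _ _ (fun i => pow_zero _), Fin.prod_univ_two, map_mul, map_pow, map_pow,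
    substHom_X, substHom_X, Fin.sum_univ_two, Fin.sum_univ_two]
  simp

lemma monomial_two {S : Type u} [CommSemiring S] (A B : ℕ) (c : S) :
    MvPolynomial.monomial (Finsupp.single (0 : Fin 2) A + Finsupp.single (1 : Fin 2) B) c =
      MvPolynomial.C c * (MvPolynomial.X 0 ^ A * MvPolynomial.X 1 ^ B) := by
  rw [MvPolynomial.monomial_eq, Finsupp.prod_add_index' (by simp) (by intros; rw [pow_add])]
  rw [Finsupp.prod_single_index (h := fun n e => (MvPolynomial.X n : MvPolynomial (Fin 2) S) ^ e)
      (pow_zero _),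
    Finsupp.prod_single_index (h := fun n e => (MvPolynomial.X n : MvPolynomial (Fin 2) S) ^ e)
      (pow_zero _)]

lemma coeff_one_coeff_aux (a b : ℕ) (l : Fin 2 →₀ ℕ) :
    (MvPolynomial.coeff l
      ((MvPolynomial.X 0 : MvPolynomial (Fin 2) (Polynomial k)) ^ a *
        (MvPolynomial.C Polynomial.X * MvPolynomial.X 0 + MvPolynomial.X 1) ^ b)).coeff 1 =
      if l 0 = a + 1 ∧ l 1 + 1 = b then (b : k) else 0 := by
  classical
  have hterm : ∀ j : ℕ, (MvPolynomial.X 0 : MvPolynomial (Fin 2) (Polynomial k)) ^ a *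
      ((MvPolynomial.C Polynomial.X * MvPolynomial.X 0) ^ j * MvPolynomial.X 1 ^ (b - j) *
        (b.choose j : MvPolynomial (Fin 2) (Polynomial k))) =
      MvPolynomial.monomial (Finsupp.single 0 (a + j) + Finsupp.single 1 (b - j))
        (Polynomial.X ^ j * (b.choose j : Polynomial k)) := by
    intro j
    rw [monomial_two, map_mul, map_pow, map_natCast, pow_add]
    ring
  rw [add_pow, Finset.mul_sum]
  simp only [hterm, MvPolynomial.coeff_sum, MvPolynomial.coeff_monomial, Polynomial.finsetSum_coeff]
  by_cases hb : b = 0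
  · subst hb
    simp only [zero_add, Finset.range_one, Finset.sum_singleton, add_zero, zero_tsub,
      Finsupp.single_zero, pow_zero, Nat.choose_self, Nat.cast_one, mul_one]
    have : ¬ (l 0 = a + 1 ∧ l 1 + 1 = 0) := fun h => by omega
    rw [if_neg this]
    split_ifs <;> simp [Polynomial.coeff_one]
  · have h1 : 1 ∈ Finset.range (b + 1) := Finset.mem_range.mpr (by omega)
    rw [Finset.sum_eq_single_of_mem 1 h1]
    · have hiff : (Finsupp.single 0 (a + 1) + Finsupp.single 1 (b - 1) = l) ↔
          (l 0 = a + 1 ∧ l 1 + 1 = b) := by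
        constructor
        · rintro rfl
          simp [Finsupp.single_apply]
          omega
        · rintro ⟨h0, h1'⟩
          ext i
          fin_cases i <;> simp [Finsupp.single_apply] <;> omega
      by_cases hl : l 0 = a + 1 ∧ l 1 + 1 = b
      · rw [if_pos (hiff.mpr hl), if_pos hl]
        simp [Polynomial.coeff_X_mul]
      · rw [if_neg (fun h => hl (hiff.mp h)), if_neg hl]
        simp
    · intro j _ hj
      split_ifs
      · rw [← Polynomial.C_eq_natCast, Polynomial.coeff_mul_C, Polynomial.coeff_X_pow,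
          if_neg (Ne.symm hj), zero_mul]
      · simp

theorem gaN_formCoeff (d : ℕ) (l m : FormIdx 2 d) :
    gaN (formCoeff k 2 d) l m =
      if l.1 0 = m.1 0 + 1 ∧ l.1 1 + 1 = m.1 1 then ((m.1 1 : ℕ) : k) else 0 := by
  have h : uPt k (formCoeff k 2 d l m) =
      Cm k d (!![1, Polynomial.X; 0, 1] : Matrix (Fin 2) (Fin 2) (Polynomial k)) l m := rfl
  rw [gaN, h, Cm_eq_coeff, substHom_uMat_monomial, coeff_one_coeff_aux]

end Binary

end Groth.Agent.H83.Weitz
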