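import Groth.Agent.H83.Weitz.Corep
import Groth.Agent.H83.HM.Coef
import Mathlib

/-!
The additive group inside the 2 x 2 matrix monoid and the derivation attached to a matrix
corepresentation (helper83, Weitzenboeck row).
-/

set_option autoImplicit false
universe u w

namespace Groth.Agent.H83.Weitz

open TensorProduct CoordGrp

section Ga

variable {k : Type u} [Field k]
variable {I : Type w} [Fintype I] [DecidableEq I]

variable (k) in
/-- The `k[t]`-point `[[1, t], [0, 1]]` of the matrix monoid. -/
noncomputable def uPt : Mat 2 k →ₐ[k] Polynomial k :=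
  Mat.aeval 2 k !![1, Polynomial.X; 0, 1]

/-- The infinitesimal generator of the corepresentation `c` restricted to the additive group. -/
noncomputable def gaN (c : I → I → Mat 2 k) (l m : I) : k := (uPt k (c l m)).coeff 1

lemma eval_zero_uPt (q : Mat 2 k) :
    (uPt k q).eval 0 = CoalgebraStruct.counit (R := k) q := by
  have h : ((Polynomial.aeval (0 : k)).restrictScalars k).comp (uPt k) =
      Bialgebra.counitAlgHom k (Mat 2 k) := by
    apply Mat.algHom_ext
    intro i j
    simp only [AlgHom.comp_apply, uPt, Mat.aeval_X, Bialgebra.counitAlgHom_apply, Mat.counit_X]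
    fin_cases i <;> fin_cases j <;> simp
  have := congrArg (fun φ => φ q) h
  simpa using this

lemma taylor_uPt (r : k) (q : Mat 2 k) :
    Polynomial.taylorAlgHom r (uPt k q) =
      (Algebra.TensorProduct.lift ((Algebra.ofId k (Polynomial k)).comp
          (((Polynomial.aeval (r : k)).restrictScalars k).comp (uPt k))) (uPt k)
        (fun _ _ => Commute.all _ _)) (CoalgebraStruct.comul (R := k) q) := by
  have h1 : (Mat.aeval 2 k (!![1, Polynomial.C r; 0, 1] : Matrix (Fin 2) (Fin 2) (Polynomial k))) =
      (Algebra.ofId k (Polynomial k)).comp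
          (((Polynomial.aeval (r : k)).restrictScalars k).comp (uPt k)) := by
    apply Mat.algHom_ext
    intro i j
    simp only [AlgHom.comp_apply, uPt, Mat.aeval_X]
    fin_cases i <;> fin_cases j <;> simp [Algebra.ofId_apply]
  have h2 : (Mat.aeval 2 k ((!![1, Polynomial.C r; 0, 1] : Matrix (Fin 2) (Fin 2) (Polynomial k)) *
      !![1, Polynomial.X; 0, 1])) = ((Polynomial.taylorAlgHom r).restrictScalars k).comp (uPt k) := by
    apply Mat.algHom_ext
    intro i j
    simp only [AlgHom.comp_apply, uPt, Mat.aeval_X]
    fin_cases i <;> fin_cases j <;> simp [Matrix.mul_apply, Fin.sum_univ_two, Polynomial.taylor_apply, add_comm]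
  have h3 := Groth.Agent.H83.HM.aeval_mul_eq (k := k)
    (!![1, Polynomial.C r; 0, 1] : Matrix (Fin 2) (Fin 2) (Polynomial k)) !![1, Polynomial.X; 0, 1]
  rw [h2, h1] at h3
  have := congrArg (fun φ => φ q) h3
  simpa [uPt] using this

section ODE

variable {c : I → I → Mat 2 k}

lemma derivative_uPt [Infinite k] (hc : IsCorep (k := k) c) (l m : I) :
    Polynomial.derivative (uPt k (c l m)) =
      ∑ j, uPt k (c l j) * Polynomial.C (gaN c j m) := by
  apply Polynomial.funext
  intro r
  have h := taylor_uPt r (c l m)
  rw [hc.comul, map_sum] at h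
  simp only [Algebra.TensorProduct.lift_tmul, AlgHom.comp_apply, Algebra.ofId_apply,
    AlgHom.restrictScalars_apply, Polynomial.coe_aeval_eq_eval,
    ← Polynomial.C_eq_algebraMap] at h
  have h1 := congrArg (fun p => Polynomial.coeff p 1) h
  have e : (Polynomial.taylorAlgHom r) (uPt k (c l m)) = Polynomial.taylor r (uPt k (c l m)) := rfl
  simp only [e, Polynomial.taylor_coeff_one, Polynomial.finsetSum_coeff,
    Polynomial.coeff_C_mul] at h1
  rw [h1, Polynomial.eval_finset_sum]
  refine Finset.sum_congr rfl fun j _ => ?_
  rw [Polynomial.eval_mul, Polynomial.eval_C]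
  rfl

variable (c) in
/-- The action of the additive group on the polynomial ring, as a map to `R[t]`. -/
noncomputable def gaAct : MvPolynomial I k →ₐ[k] Polynomial (MvPolynomial I k) :=
  ((polyEquivTensor k (MvPolynomial I k)).symm : _ →ₐ[k] _).comp
    ((Algebra.TensorProduct.map (AlgHom.id k _) (uPt k)).comp (corepAlg k c))

lemma gaAct_apply (f : MvPolynomial I k) :
    gaAct c f = (polyEquivTensor k (MvPolynomial I k)).symm
      ((Algebra.TensorProduct.map (AlgHom.id k _) (uPt k)) (corepAlg k c f)) := rfl

lemma gaAct_X (m : I) :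
    gaAct c (MvPolynomial.X m) =
      ∑ l, Polynomial.C (MvPolynomial.X l : MvPolynomial I k) *
        (uPt k (c l m)).map (algebraMap k (MvPolynomial I k)) := by
  rw [gaAct_apply, corepAlg_X, map_sum, map_sum]
  refine Finset.sum_congr rfl fun l _ => ?_
  rw [Algebra.TensorProduct.map_tmul, polyEquivTensor_symm_apply_tmul_eq_smul,
    Polynomial.smul_eq_C_mul]
  rfl

lemma coeff_zero_gaAct (hc : IsCorep (k := k) c) (f : MvPolynomial I k) :
    (gaAct c f).coeff 0 = f := by
  have h : ((Polynomial.aeval (0 : MvPolynomial I k)).restrictScalars k).comp (gaAct c) =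
      AlgHom.id k _ := by
    apply MvPolynomial.algHom_ext
    intro m
    rw [AlgHom.comp_apply, gaAct_X, map_sum, AlgHom.id_apply]
    simp only [AlgHom.restrictScalars_apply, map_mul, Polynomial.aeval_C, Polynomial.coe_aeval_eq_eval,
      Polynomial.eval_map, Polynomial.eval₂_at_zero, ← Polynomial.coeff_zero_eq_eval_zero]
    simp only [Polynomial.coeff_zero_eq_eval_zero, eval_zero_uPt, hc.counit]
    simp [Finset.sum_ite_eq']
  have := congrArg (fun φ => φ f) h
  simp only [AlgHom.comp_apply, AlgHom.restrictScalars_apply, Polynomial.coe_aeval_eq_eval,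
    AlgHom.id_apply] at this
  rw [Polynomial.coeff_zero_eq_eval_zero]
  exact this

variable (c) in
/-- The derivation generating the action of the additive group. -/
noncomputable def gaDer : Derivation k (MvPolynomial I k) (MvPolynomial I k) :=
  MvPolynomial.mkDerivation k fun m => ∑ l, gaN c l m • (MvPolynomial.X l : MvPolynomial I k)

lemma gaDer_X (m : I) :
    gaDer c (MvPolynomial.X m) = ∑ l, gaN c l m • (MvPolynomial.X l : MvPolynomial I k) := by
  simp [gaDer, MvPolynomial.mkDerivation_X]

lemma derivative_gaAct_X [Infinite k] (hc : IsCorep (k := k) c) (m : I) :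
    Polynomial.derivative (gaAct c (MvPolynomial.X m)) = gaAct c (gaDer c (MvPolynomial.X m)) := by
  rw [gaDer_X, map_sum, gaAct_X, map_sum]
  simp only [map_smul, gaAct_X, Polynomial.derivative_mul, Polynomial.derivative_C, zero_mul,
    zero_add, Polynomial.derivative_map, derivative_uPt hc, Polynomial.map_sum, Polynomial.map_mul,
    Polynomial.map_C, Finset.mul_sum, Finset.smul_sum]
  rw [Finset.sum_comm]
  refine Finset.sum_congr rfl fun j _ => ?_
  refine Finset.sum_congr rfl fun l _ => ?_
  rw [Algebra.smul_def, Polynomial.algebraMap_apply]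
  ring

lemma derivative_gaAct [Infinite k] (hc : IsCorep (k := k) c) (f : MvPolynomial I k) :
    Polynomial.derivative (gaAct c f) = gaAct c (gaDer c f) := by
  induction f using MvPolynomial.induction_on with
  | C a =>
    rw [← MvPolynomial.algebraMap_eq, AlgHom.commutes, Derivation.map_algebraMap, map_zero,
      Polynomial.algebraMap_apply, Polynomial.derivative_C]
  | add p q hp hq => rw [map_add, map_add, map_add, map_add, hp, hq]
  | mul_X p m hp =>
    rw [map_mul, Polynomial.derivative_mul, hp, derivative_gaAct_X hc, Derivation.leibniz,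
      map_add, smul_eq_mul, smul_eq_mul, map_mul, map_mul]
    ring

theorem gaDer_eq_zero_iff [CharZero k] (hc : IsCorep (k := k) c) (f : MvPolynomial I k) :
    gaDer c f = 0 ↔
      (Algebra.TensorProduct.map (AlgHom.id k (MvPolynomial I k)) (uPt k)) (corepAlg k c f) =
        f ⊗ₜ[k] (1 : Polynomial k) := by
  have hsymm : (polyEquivTensor k (MvPolynomial I k)).symm (f ⊗ₜ[k] (1 : Polynomial k)) =
      Polynomial.C f := by
    rw [polyEquivTensor_symm_apply_tmul_eq_smul, Polynomial.map_one, Polynomial.smul_eq_C_mul, mul_one]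
  constructor
  · intro h
    have h1 := derivative_gaAct hc f
    rw [h, map_zero] at h1
    have h2 := Polynomial.eq_C_of_derivative_eq_zero h1
    rw [coeff_zero_gaAct hc] at h2
    apply (polyEquivTensor k (MvPolynomial I k)).symm.injective
    rw [hsymm, ← h2]
    rfl
  · intro h
    have h2 : gaAct c f = Polynomial.C f := by
      rw [gaAct_apply, h, hsymm]
    have h1 := derivative_gaAct hc f
    rw [h2, Polynomial.derivative_C] at h1
    have h3 := coeff_zero_gaAct hc (gaDer c f)
    rw [← h1, Polynomial.coeff_zero] at h3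
    exact h3.symm

end ODE

end Ga

end Groth.Agent.H83.Weitz
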