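import Groth.Prelude.Def_GLin6
import Mathlib

/-!
Key lemma for the transfer principle (helper83, Weitzenboeck row): a polynomial function on
2 x 2 matrices which is invariant under right translation by the upper unipotent group is a
polynomial in the first column and the determinant.
-/

set_option autoImplicit false
universe u

namespace Groth.Agent.H83.Weitz

open MvPolynomial CoordGrp

variable {k : Type u} [Field k]

/-- Clearing the denominators of the substitution `x₀ ↦ x₀ / x_j`. -/
lemma exists_homog (j : Fin 3) (G : MvPolynomial (Fin 3) k) :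
    ∃ (N : ℕ) (Gh : MvPolynomial (Fin 3) k), ∀ {K : Type u} [Field K] [Algebra k K]
      (v : Fin 3 → K), v j ≠ 0 →
      (v j) ^ N * aeval (Function.update v 0 (v 0 / v j)) G = aeval v Gh := by
  induction G using MvPolynomial.induction_on with
  | C a =>
    refine ⟨0, C a, ?_⟩
    intro K _ _ v _
    simp
  | add p q hp hq =>
    obtain ⟨N1, G1, h1⟩ := hp
    obtain ⟨N2, G2, h2⟩ := hq
    refine ⟨N1 + N2, X j ^ N2 * G1 + X j ^ N1 * G2, ?_⟩
    intro K _ _ v hv
    rw [map_add, map_add, map_mul, map_mul, map_pow, map_pow, aeval_X, ← h1 v hv, ← h2 v hv]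
    ring
  | mul_X p n hp =>
    obtain ⟨N, Gh, h⟩ := hp
    by_cases hn : n = 0
    · subst hn
      refine ⟨N + 1, Gh * X 0, ?_⟩
      intro K _ _ v hv
      rw [map_mul, map_mul, aeval_X, aeval_X, ← h v hv, Function.update_self]
      field_simp
      ring
    · refine ⟨N, Gh * X n, ?_⟩
      intro K _ _ v hv
      rw [map_mul, map_mul, aeval_X, aeval_X, ← h v hv, Function.update_of_ne hn]
      ring

variable (k) in
/-- First column and determinant. -/
noncomputable def kappa : MvPolynomial (Fin 3) k →ₐ[k] Mat 2 k :=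
  aeval ![Mat.det 2 k, Mat.X 0 0, Mat.X 1 0]

lemma det_two : Mat.det 2 k = Mat.X 0 0 * Mat.X 1 1 - Mat.X 0 1 * Mat.X 1 0 := by
  rw [Mat.det, Matrix.det_fin_two]
  rfl

lemma aeval_det {B : Type u} [CommRing B] [Algebra k B] (M : Matrix (Fin 2) (Fin 2) B) :
    Mat.aeval 2 k M (Mat.det 2 k) = M 0 0 * M 1 1 - M 0 1 * M 1 0 := by
  rw [det_two]
  simp

lemma kappa_injective : Function.Injective (kappa k) := by
  -- evaluate at the matrix `[[a, 0], [c, z/a]]` over the fraction field of `k[z, a, c]`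
  let L := FractionRing (MvPolynomial (Fin 3) k)
  let z : L := algebraMap (MvPolynomial (Fin 3) k) L (X 0)
  let a : L := algebraMap (MvPolynomial (Fin 3) k) L (X 1)
  let c : L := algebraMap (MvPolynomial (Fin 3) k) L (X 2)
  have ha : a ≠ 0 := by
    intro h
    have : (X 1 : MvPolynomial (Fin 3) k) = 0 :=
      IsFractionRing.injective (MvPolynomial (Fin 3) k) L (by rw [map_zero]; exact h)
    exact X_ne_zero _ this
  have hcomp : (Mat.aeval 2 k !![a, 0; c, z / a]).comp (kappa k) =
      IsScalarTower.toAlgHom k (MvPolynomial (Fin 3) k) L := by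
    apply MvPolynomial.algHom_ext
    intro i
    simp only [AlgHom.comp_apply, kappa, aeval_X, IsScalarTower.coe_toAlgHom']
    fin_cases i
    · simp only [Fin.zero_eta, Matrix.cons_val_zero]
      rw [aeval_det]
      simp only [Matrix.of_apply, Matrix.cons_val', Matrix.cons_val_zero, Matrix.cons_val_one,
        Matrix.cons_val_fin_one]
      rw [zero_mul, sub_zero, mul_div_cancel₀ _ ha]
    · simp [a]
    · simp [c]
  intro p q hpq
  have := congrArg (Mat.aeval 2 k !![a, 0; c, z / a]) hpq
  have h2 := congrArg (fun φ => φ p) hcomp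
  have h3 := congrArg (fun φ => φ q) hcomp
  simp only [AlgHom.comp_apply, IsScalarTower.coe_toAlgHom'] at h2 h3
  rw [h2, h3] at this
  exact IsFractionRing.injective (MvPolynomial (Fin 3) k) L this

/-- The key lemma: invariance under `g ↦ g u_t` for all `t` in the fraction field forces a
polynomial function of `g` to be a polynomial in the first column and the determinant. -/
theorem mem_range_kappa (θ : Mat 2 k)
    (h : ∀ t₀ : FractionRing (Mat 2 k),
      Mat.aeval 2 k
        !![algebraMap (Mat 2 k) (FractionRing (Mat 2 k)) (Mat.X 0 0),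
           algebraMap (Mat 2 k) (FractionRing (Mat 2 k)) (Mat.X 0 1) +
            t₀ * algebraMap (Mat 2 k) (FractionRing (Mat 2 k)) (Mat.X 0 0);
           algebraMap (Mat 2 k) (FractionRing (Mat 2 k)) (Mat.X 1 0),
           algebraMap (Mat 2 k) (FractionRing (Mat 2 k)) (Mat.X 1 1) +
            t₀ * algebraMap (Mat 2 k) (FractionRing (Mat 2 k)) (Mat.X 1 0)] θ =
        algebraMap (Mat 2 k) (FractionRing (Mat 2 k)) θ) :
    θ ∈ (kappa k).range := by
  classical
  set ι := algebraMap (Mat 2 k) (FractionRing (Mat 2 k)) with hι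
  have hinj : Function.Injective ι := IsFractionRing.injective (Mat 2 k) (FractionRing (Mat 2 k))
  set a' := ι (Mat.X 0 0) with ha'
  set b' := ι (Mat.X 0 1) with hb'
  set c' := ι (Mat.X 1 0) with hc'
  set d' := ι (Mat.X 1 1) with hd'
  set Δ' := a' * d' - b' * c' with hΔ'
  have hXne : ∀ i j : Fin 2, ι (Mat.X i j) ≠ 0 := by
    intro i j h0
    have : (Mat.X i j : Mat 2 k) = 0 := hinj (by rw [map_zero]; exact h0)
    exact MvPolynomial.X_ne_zero (R := k) (i, j) this
  have ha0 : a' ≠ 0 := hXne 0 0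
  have hc0 : c' ≠ 0 := hXne 1 0
  have hιdet : ι (Mat.det 2 k) = Δ' := by
    rw [det_two]; simp only [map_sub, map_mul]; rfl
  -- `ι ∘ kappa` is evaluation at `(Δ', a', c')`
  have hικ : ∀ q : MvPolynomial (Fin 3) k, ι (kappa k q) = aeval ![Δ', a', c'] q := by
    intro q
    have : (IsScalarTower.toAlgHom k (Mat 2 k) (FractionRing (Mat 2 k))).comp (kappa k) = aeval ![Δ', a', c'] := by
      apply MvPolynomial.algHom_ext
      intro i
      simp only [AlgHom.comp_apply, kappa, aeval_X, IsScalarTower.coe_toAlgHom']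
      fin_cases i
      · exact hιdet
      · rfl
      · rfl
    exact congrArg (fun φ => φ q) this
  -- first chart
  have h1 := h (-b' / a')
  have hm1 : (!![a', b' + -b' / a' * a'; c', d' + -b' / a' * c'] : Matrix (Fin 2) (Fin 2) (FractionRing (Mat 2 k))) =
      !![a', 0; c', Δ' / a'] := by
    have e01 : b' + -b' / a' * a' = 0 := by field_simp; ring
    have e11 : d' + -b' / a' * c' = Δ' / a' := by rw [hΔ']; field_simp; ring
    rw [e01, e11]
  rw [hm1] at h1
  set G := Mat.aeval 2 k (!![X 1, 0; X 2, X 0] : Matrix (Fin 2) (Fin 2) (MvPolynomial (Fin 3) k)) θ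
    with hG
  have hGev : ∀ v : Fin 3 → FractionRing (Mat 2 k), aeval v G = Mat.aeval 2 k !![v 1, 0; v 2, v 0] θ := by
    intro v
    have : (aeval v).comp (Mat.aeval 2 k
        (!![X 1, 0; X 2, X 0] : Matrix (Fin 2) (Fin 2) (MvPolynomial (Fin 3) k))) =
        Mat.aeval 2 k !![v 1, 0; v 2, v 0] := by
      apply Mat.algHom_ext
      intro i j
      simp only [AlgHom.comp_apply, Mat.aeval_X]
      fin_cases i <;> fin_cases j <;> simp
    exact congrArg (fun φ => φ θ) this
  obtain ⟨N, Gh, hGh⟩ := exists_homog (k := k) 1 G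
  have e1 : Mat.X 0 0 ^ N * θ = kappa k Gh := by
    apply hinj
    rw [map_mul, map_pow, hικ, ← hGh ![Δ', a', c'] ha0]
    have hupd : Function.update ![Δ', a', c'] 0 ((![Δ', a', c'] : Fin 3 → (FractionRing (Mat 2 k))) 0 /
        (![Δ', a', c'] : Fin 3 → (FractionRing (Mat 2 k))) 1) = ![Δ' / a', a', c'] := by
      funext i
      fin_cases i <;> simp [Function.update]
    rw [hupd, hGev]
    simp only [Matrix.cons_val_zero, Matrix.cons_val_one, Matrix.cons_val_two, Matrix.head_cons,
      Matrix.tail_cons]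
    rw [h1]
  -- second chart
  have h2 := h (-d' / c')
  have hm2 : (!![a', b' + -d' / c' * a'; c', d' + -d' / c' * c'] : Matrix (Fin 2) (Fin 2) (FractionRing (Mat 2 k))) =
      !![a', -(Δ' / c'); c', 0] := by
    have e01 : b' + -d' / c' * a' = -(Δ' / c') := by rw [hΔ']; field_simp; ring
    have e11 : d' + -d' / c' * c' = 0 := by field_simp; ring
    rw [e01, e11]
  rw [hm2] at h2
  set G' := Mat.aeval 2 k (!![X 1, -X 0; X 2, 0] : Matrix (Fin 2) (Fin 2) (MvPolynomial (Fin 3) k)) θ
    with hG'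
  have hGev' : ∀ v : Fin 3 → FractionRing (Mat 2 k), aeval v G' = Mat.aeval 2 k !![v 1, -v 0; v 2, 0] θ := by
    intro v
    have : (aeval v).comp (Mat.aeval 2 k
        (!![X 1, -X 0; X 2, 0] : Matrix (Fin 2) (Fin 2) (MvPolynomial (Fin 3) k))) =
        Mat.aeval 2 k !![v 1, -v 0; v 2, 0] := by
      apply Mat.algHom_ext
      intro i j
      simp only [AlgHom.comp_apply, Mat.aeval_X]
      fin_cases i <;> fin_cases j <;> simp
    exact congrArg (fun φ => φ θ) this
  obtain ⟨N', Gh', hGh'⟩ := exists_homog (k := k) 2 G'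
  have e2 : Mat.X 1 0 ^ N' * θ = kappa k Gh' := by
    apply hinj
    rw [map_mul, map_pow, hικ, ← hGh' ![Δ', a', c'] hc0]
    have hupd : Function.update ![Δ', a', c'] 0 ((![Δ', a', c'] : Fin 3 → (FractionRing (Mat 2 k))) 0 /
        (![Δ', a', c'] : Fin 3 → (FractionRing (Mat 2 k))) 2) = ![Δ' / c', a', c'] := by
      funext i
      fin_cases i <;> simp [Function.update]
    rw [hupd, hGev']
    simp only [Matrix.cons_val_zero, Matrix.cons_val_one, Matrix.cons_val_two, Matrix.head_cons,
      Matrix.tail_cons]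
    rw [h2]
  -- combine
  have hκX1 : kappa k (X 1) = Mat.X 0 0 := by simp [kappa]
  have hκX2 : kappa k (X 2) = Mat.X 1 0 := by simp [kappa]
  have e3 : (X 2 : MvPolynomial (Fin 3) k) ^ N' * Gh = X 1 ^ N * Gh' := by
    apply kappa_injective
    rw [map_mul, map_mul, map_pow, map_pow, hκX1, hκX2, ← e1, ← e2]
    ring
  have hdvd : (X 1 : MvPolynomial (Fin 3) k) ^ N ∣ Gh := by
    apply Prime.pow_dvd_of_dvd_mul_left (a := (X 2 : MvPolynomial (Fin 3) k) ^ N') X_prime N
    · intro hdiv
      have := (X_prime (R := k) (i := (1 : Fin 3))).dvd_of_dvd_pow hdiv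
      rw [X_dvd_X] at this
      exact absurd this (by decide)
    · exact ⟨Gh', e3⟩
  obtain ⟨Q, hQ⟩ := hdvd
  refine ⟨Q, ?_⟩
  have hd1 : (Mat.X 0 0 : Mat 2 k) ^ N ≠ 0 :=
    pow_ne_zero _ (MvPolynomial.X_ne_zero (R := k) ((0 : Fin 2), (0 : Fin 2)))
  apply mul_left_cancel₀ hd1
  change Mat.X 0 0 ^ N * kappa k Q = Mat.X 0 0 ^ N * θ
  rw [e1, hQ, map_mul, map_pow, hκX1]

end Groth.Agent.H83.Weitz
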