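import Mathlib

/-!
Linear change of variables in a polynomial ring and transport of linear derivations
(helper83, Weitzenboeck row).
-/

set_option autoImplicit false
universe u

namespace Groth.Agent.H83.Weitz

open MvPolynomial

section LinChange

variable {k : Type u} [Field k] {n : ℕ} {I : Type u} [Fintype I] [DecidableEq I]

variable (k n) in
/-- The linear form with given coefficient vector. -/
noncomputable def linForm : (Fin n → k) →ₗ[k] MvPolynomial (Fin n) k :=
  (Pi.basisFun k (Fin n)).constr k (fun j => (X j : MvPolynomial (Fin n) k))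

lemma linForm_apply (v : Fin n → k) :
    linForm k n v = ∑ j, v j • (X j : MvPolynomial (Fin n) k) := by
  rw [linForm, Module.Basis.constr_apply_fintype]
  simp

/-- The change of variables attached to a basis of the space of coefficient vectors. -/
noncomputable def chg (β : Module.Basis I k (Fin n → k)) :
    MvPolynomial I k ≃ₐ[k] MvPolynomial (Fin n) k :=
  (SymmetricAlgebra.equivMvPolynomial β).symm.trans
    (SymmetricAlgebra.equivMvPolynomial (Pi.basisFun k (Fin n)))

lemma chg_X (β : Module.Basis I k (Fin n → k)) (m : I) :
    chg β (X m) = linForm k n (β m) := by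
  rw [chg, AlgEquiv.trans_apply, SymmetricAlgebra.equivMvPolynomial_symm_X]
  exact SymmetricAlgebra.lift_ι_apply _ _

variable (M : Matrix (Fin n) (Fin n) k)

/-- The linear derivation attached to a matrix. -/
noncomputable def derM : Derivation k (MvPolynomial (Fin n) k) (MvPolynomial (Fin n) k) :=
  mkDerivation k (fun j => ∑ i, M i j • (X i : MvPolynomial (Fin n) k))

lemma derM_linForm (v : Fin n → k) : derM M (linForm k n v) = linForm k n (M.mulVec v) := by
  rw [linForm_apply, linForm_apply, map_sum]
  have h1 : ∀ j, derM M (v j • (X j : MvPolynomial (Fin n) k)) =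
      ∑ i, (M i j * v j) • (X i : MvPolynomial (Fin n) k) := by
    intro j
    rw [Derivation.map_smul, derM, mkDerivation_X, Finset.smul_sum]
    refine Finset.sum_congr rfl fun i _ => ?_
    rw [smul_smul, mul_comm]
  simp only [h1, Matrix.mulVec, dotProduct, Finset.sum_smul]
  exact Finset.sum_comm

variable (NI : I → I → k)

/-- The linear derivation attached to a matrix indexed by `I`. -/
noncomputable def derI : Derivation k (MvPolynomial I k) (MvPolynomial I k) :=
  mkDerivation k (fun m => ∑ l, NI l m • (X l : MvPolynomial I k))

lemma derM_chg (β : Module.Basis I k (Fin n → k))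
    (hβ : ∀ m, M.mulVec (β m) = ∑ l, NI l m • β l) (g : MvPolynomial I k) :
    derM M (chg β g) = chg β (derI NI g) := by
  induction g using MvPolynomial.induction_on with
  | C a =>
    rw [← MvPolynomial.algebraMap_eq, AlgEquiv.commutes, Derivation.map_algebraMap,
      Derivation.map_algebraMap, map_zero]
  | add p q hp hq => rw [map_add, map_add, map_add, map_add, hp, hq]
  | mul_X p m hp =>
    have hX : derM M (chg β (X m)) = chg β (derI NI (X m)) := by
      rw [chg_X, derM_linForm, hβ, derI, mkDerivation_X, map_sum, map_sum]
      refine Finset.sum_congr rfl fun l _ => ?_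
      rw [map_smul, map_smul, chg_X]
    rw [map_mul, Derivation.leibniz, hp, hX, Derivation.leibniz, map_add, smul_eq_mul,
      smul_eq_mul, smul_eq_mul, smul_eq_mul, map_mul, map_mul]

theorem ker_transport (β : Module.Basis I k (Fin n → k))
    (hβ : ∀ m, M.mulVec (β m) = ∑ l, NI l m • β l) (f : MvPolynomial (Fin n) k) :
    derM M f = 0 ↔ ∃ g : MvPolynomial I k, derI NI g = 0 ∧ chg β g = f := by
  constructor
  · intro hf
    refine ⟨(chg β).symm f, ?_, AlgEquiv.apply_symm_apply _ _⟩
    apply (chg β).injective
    rw [← derM_chg M NI β hβ, AlgEquiv.apply_symm_apply, hf, map_zero]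
  · rintro ⟨g, hg, rfl⟩
    rw [derM_chg M NI β hβ, hg, map_zero]

end LinChange

end Groth.Agent.H83.Weitz
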