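import Groth.Agent.H83.Weitz.Transfer
import Groth.Agent.H83.Weitz.Forms
import Groth.Agent.H83.Weitz.LinChange
import Groth.Agent.H83.HM.SLnFG
import Groth.Agent.S11793
import Groth.Agent.S12559
import Groth.Agent.S18983
import Mathlib

/-!
Finite generation of the kernel of a linear locally nilpotent derivation of a polynomial ring
(helper83, Weitzenboeck row).
-/

set_option autoImplicit false
universe u

namespace Groth.Agent.H83.Weitz

open TensorProduct CoordGrp Groth.Agent.H83.HM

section Blocks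

variable {k : Type u} [Field k]

variable (k) in
/-- The corepresentation on binary forms of degree `d`, indexed by `Fin (d + 1)`. -/
noncomputable def cBin (d : ℕ) : Fin (d + 1) → Fin (d + 1) → Mat 2 k :=
  fun l m => formCoeff k 2 d (binEquiv d l) (binEquiv d m)

theorem isCorep_cBin (d : ℕ) : IsCorep (k := k) (cBin k d) :=
  (isCorep_formCoeff d).reindex (binEquiv d)

theorem gaN_cBin (d : ℕ) (l m : Fin (d + 1)) :
    gaN (cBin k d) l m = if (l : ℕ) + 1 = (m : ℕ) then ((m : ℕ) : k) else 0 := by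
  have h : gaN (cBin k d) l m = gaN (formCoeff k 2 d) (binIdx d l) (binIdx d m) := rfl
  rw [h, gaN_formCoeff]
  simp only [binIdx_val_zero, binIdx_val_one]
  have hl := l.2
  have hm := m.2
  by_cases hlm : (l : ℕ) + 1 = (m : ℕ)
  · rw [if_pos hlm, if_pos ⟨by omega, hlm⟩]
  · rw [if_neg hlm, if_neg (fun h => hlm h.2)]

variable {ι : Type u} [Fintype ι] [DecidableEq ι] (n' : ι → ℕ)

variable (k) in
/-- The block sum of the corepresentations on binary forms. -/
noncomputable def cSig : (Σ i : ι, Fin (n' i + 1)) → (Σ i : ι, Fin (n' i + 1)) → Mat 2 k :=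
  sigmaCorep (fun i => cBin k (n' i))

theorem isCorep_cSig : IsCorep (k := k) (cSig k n') :=
  IsCorep.sigma (fun i => isCorep_cBin (n' i))

theorem gaN_cSig_same (i : ι) (l m : Fin (n' i + 1)) :
    gaN (cSig k n') ⟨i, l⟩ ⟨i, m⟩ = if (l : ℕ) + 1 = (m : ℕ) then ((m : ℕ) : k) else 0 := by
  rw [gaN, cSig, sigmaCorep_same]
  exact gaN_cBin (n' i) l m

theorem gaN_cSig_ne {x y : Σ i : ι, Fin (n' i + 1)} (h : x.1 ≠ y.1) :
    gaN (cSig k n') x y = 0 := by
  rw [gaN, cSig, sigmaCorep_ne _ h, map_zero, Polynomial.coeff_zero]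

section JordanBasis

variable [CharZero k] {n : ℕ} (M : Matrix (Fin n) (Fin n) k)
  (b : Module.Basis (Σ i : ι, Fin (n' i + 1)) k (Fin n → k))

/-- The Jordan basis rescaled by factorials. -/
noncomputable def betaB : Module.Basis (Σ i : ι, Fin (n' i + 1)) k (Fin n → k) :=
  b.isUnitSMul (w := fun x => (((x.2 : ℕ).factorial : ℕ) : k))
    (fun x => (Nat.cast_ne_zero.mpr (Nat.factorial_ne_zero _)).isUnit)

lemma betaB_apply (x : Σ i : ι, Fin (n' i + 1)) :
    betaB n' b x = (((x.2 : ℕ).factorial : ℕ) : k) • b x := by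
  rw [betaB, Module.Basis.isUnitSMul_apply]

theorem betaB_spec (h0 : ∀ i : ι, M.mulVec (b ⟨i, 0⟩) = 0)
    (hs : ∀ (i : ι) (l : Fin (n' i)), M.mulVec (b ⟨i, l.succ⟩) = b ⟨i, l.castSucc⟩)
    (y : Σ i : ι, Fin (n' i + 1)) :
    M.mulVec (betaB n' b y) = ∑ x, gaN (cSig k n') x y • betaB n' b x := by
  obtain ⟨i, m⟩ := y
  rw [Fintype.sum_sigma, Finset.sum_eq_single i]
  · simp only [gaN_cSig_same, betaB_apply, Matrix.mulVec_smul]
    induction m using Fin.cases with
    | zero =>
      rw [h0, smul_zero]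
      symm
      refine Finset.sum_eq_zero fun l _ => ?_
      rw [if_neg (by simp), zero_smul]
    | succ l₀ =>
      rw [hs, Finset.sum_eq_single l₀.castSucc]
      · rw [if_pos (by simp), smul_smul]
        congr 1
        simp only [Fin.val_succ, Fin.val_castSucc, Nat.factorial_succ, Nat.cast_mul]
      · intro l _ hl
        rw [if_neg, zero_smul]
        intro h
        apply hl
        ext
        simp only [Fin.val_succ, Fin.val_castSucc] at h ⊢
        omega
      · intro h; exact absurd (Finset.mem_univ _) h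
  · intro i' _ hi'
    refine Finset.sum_eq_zero fun l _ => ?_
    rw [gaN_cSig_ne n' (x := ⟨i', l⟩) (y := ⟨i, m⟩) hi', zero_smul]
  · intro h; exact absurd (Finset.mem_univ _) h

end JordanBasis

end Blocks

section MainThm

variable (k : Type u) [Field k] [IsAlgClosed k] [CharZero k]

/-- Finite generation of the kernel of a linear locally nilpotent derivation. -/
theorem fg_ker_derM (n : ℕ) (M : Matrix (Fin n) (Fin n) k) (hM : IsNilpotent M) :
    ∃ S : Subalgebra k (MvPolynomial (Fin n) k), S.FG ∧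
      ∀ f : MvPolynomial (Fin n) k, f ∈ S ↔ derM M f = 0 := by
  classical
  -- Jordan basis
  have hA : IsNilpotent (Matrix.mulVecLin M) := by
    obtain ⟨N, hN⟩ := hM
    refine ⟨N, ?_⟩
    rw [← Matrix.toLin'_apply', ← Matrix.toLin'_pow, hN, map_zero]
  have hint : DirectSum.IsInternal (fun _ : PUnit.{1} => (⊤ : Submodule k (Fin n → k))) := by
    apply DirectSum.isInternal_submodule_of_iSupIndep_of_iSup_eq_top
    · exact iSupIndep_subsingleton _
    · exact ciSup_const
  obtain ⟨ι, hfin, n', b, -, h0, hs⟩ := Groth.Agent.S18983.result k PUnit.{1} (Fin n → k)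
    (fun _ => ⊤) hint (Matrix.mulVecLin M) hA 0 (fun _ _ _ => Submodule.mem_top)
  haveI : Fintype ι := Fintype.ofFinite ι
  -- the corepresentation
  have hc : IsCorep (k := k) (cSig k n') := isCorep_cSig n'
  have hβ := betaB_spec n' M b h0 hs
  have hker := ker_transport M (gaN (cSig k n')) (betaB n' b) hβ
  -- finite generation of the invariants of `SL₂`
  letI : HopfRep.Comod k (SLn 2 k) (MvPolynomial ((Σ i : ι, Fin (n' i + 1)) ⊕ Fin 2) k) :=
    corepComod (cH (cSig k n')) (isCorep_cH hc)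
  obtain ⟨s, hs1, hs2⟩ := Groth.Agent.S11793.result k (SLn 2 k) (Groth.Agent.S12559.result k 2)
    (MvPolynomial ((Σ i : ι, Fin (n' i + 1)) ⊕ Fin 2) k)
    (fun f g => map_mul (corepAlg k (cH (cSig k n'))) f g)
    (map_one (corepAlg k (cH (cSig k n'))))
  have hfix : ∀ F : MvPolynomial ((Σ i : ι, Fin (n' i + 1)) ⊕ Fin 2) k,
      F ∈ HopfRep.fixedPts k (SLn 2 k) (MvPolynomial ((Σ i : ι, Fin (n' i + 1)) ⊕ Fin 2) k) ↔
        corepAlg k (cH (cSig k n')) F = F ⊗ₜ[k] (1 : SLn 2 k) := fun F => Iff.rfl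
  -- invariants form a subalgebra
  have hadj : ∀ F ∈ Algebra.adjoin k (s : Set (MvPolynomial ((Σ i : ι, Fin (n' i + 1)) ⊕ Fin 2) k)),
      corepAlg k (cH (cSig k n')) F = F ⊗ₜ[k] (1 : SLn 2 k) := by
    intro F hF
    have hle : Algebra.adjoin k (s : Set (MvPolynomial ((Σ i : ι, Fin (n' i + 1)) ⊕ Fin 2) k)) ≤
        AlgHom.equalizer (corepAlg k (cH (cSig k n')))
          (Algebra.TensorProduct.includeLeft :
            MvPolynomial ((Σ i : ι, Fin (n' i + 1)) ⊕ Fin 2) k →ₐ[k] _) := by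
      apply Algebra.adjoin_le
      intro x hx
      exact (hfix x).mp (hs1 x hx)
    exact hle hF
  refine ⟨(Algebra.adjoin k (s : Set (MvPolynomial ((Σ i : ι, Fin (n' i + 1)) ⊕ Fin 2) k))).map
    (((chg (betaB n' b)) : MvPolynomial (Σ i : ι, Fin (n' i + 1)) k →ₐ[k] _).comp
      (evC k (Σ i : ι, Fin (n' i + 1)))), ?_, ?_⟩
  · exact Subalgebra.FG.map _ (Subalgebra.fg_adjoin_finset s)
  · intro f
    rw [hker f, Subalgebra.mem_map]
    constructor
    · rintro ⟨F, hF, rfl⟩
      refine ⟨evC k _ F, ?_, rfl⟩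
      change gaDer (cSig k n') (evC k _ F) = 0
      rw [gaDer_eq_zero_iff hc]
      exact evC_fixed _ F (hadj F hF)
    · rintro ⟨g, hg, rfl⟩
      change gaDer (cSig k n') g = 0 at hg
      rw [gaDer_eq_zero_iff hc] at hg
      obtain ⟨F, hF, rfl⟩ := exists_fixed hc g hg
      exact ⟨F, hs2 F ((hfix F).mpr hF), rfl⟩

end MainThm

end Groth.Agent.H83.Weitz
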