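import Groth.Agent.H83.Weitz.Ga
import Groth.Agent.H83.Weitz.KL
import Groth.Agent.H83.HM.Points
import Mathlib

/-!
The transfer principle for the additive group inside `SL₂` (helper83, Weitzenboeck row):
invariants of the additive group on a polynomial ring are the restrictions of the `SL₂`-invariants
of the polynomial ring with two more variables.
-/

set_option autoImplicit false
universe u

namespace Groth.Agent.H83.Weitz

open TensorProduct CoordGrp Groth.Agent.H83.HM

section Transfer

variable {k : Type u} [Field k]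
variable {I : Type u} [Fintype I] [DecidableEq I]

/-- The standard corepresentation of the matrix monoid. -/
theorem isCorep_matX : IsCorep (k := k) (fun i j : Fin 2 => (Mat.X i j : Mat 2 k)) where
  comul l m := Mat.comul_X l m
  counit l m := Mat.counit_X l m

variable (c : I → I → Mat 2 k)

/-- The corepresentation of `SL₂` on `I ⊕ Fin 2`. -/
noncomputable def cH : (I ⊕ Fin 2) → (I ⊕ Fin 2) → SLn 2 k :=
  fun l m => slHom k 2 (sumCorep c (fun i j : Fin 2 => (Mat.X i j : Mat 2 k)) l m)

variable {c} in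
theorem isCorep_cH (hc : IsCorep (k := k) c) : IsCorep (k := k) (cH c) :=
  (hc.sum isCorep_matX).map (slHom k 2)

@[simp] lemma cH_inl_inl (l m : I) : cH c (Sum.inl l) (Sum.inl m) = slHom k 2 (c l m) := rfl
@[simp] lemma cH_inr_inr (i j : Fin 2) : cH c (Sum.inr i) (Sum.inr j) = SLn.X i j := by
  change slHom k 2 (Mat.X i j) = _
  exact slHom_X i j
@[simp] lemma cH_inl_inr (l : I) (j : Fin 2) : cH c (Sum.inl l) (Sum.inr j) = 0 := by
  change slHom k 2 0 = _
  exact map_zero _
@[simp] lemma cH_inr_inl (i : Fin 2) (m : I) : cH c (Sum.inr i) (Sum.inl m) = 0 := by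
  change slHom k 2 0 = _
  exact map_zero _

variable (k I) in
/-- Evaluation at the row vector `(0, 1)`. -/
noncomputable def evC : MvPolynomial (I ⊕ Fin 2) k →ₐ[k] MvPolynomial I k :=
  MvPolynomial.aeval (Sum.elim MvPolynomial.X (fun i => MvPolynomial.C ((![0, 1] : Fin 2 → k) i)))

variable (k) in
/-- The point `[[1, t], [0, 1]]` of `SL₂`. -/
noncomputable def uH : SLn 2 k →ₐ[k] Polynomial k :=
  SLn.pt 2 k !![1, Polynomial.X; 0, 1] (by simp [Matrix.det_fin_two])

lemma uH_slHom (q : Mat 2 k) : uH k (slHom k 2 q) = uPt k q := by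
  rw [apply_slHom, uH, matOf_pt]
  rfl

lemma uH_X (i j : Fin 2) : uH k (SLn.X i j) = (!![1, Polynomial.X; 0, 1] : Matrix _ _ (Polynomial k)) i j := by
  rw [uH, SLn.pt_X]

theorem evC_fixed (F : MvPolynomial (I ⊕ Fin 2) k)
    (hF : corepAlg k (cH c) F = F ⊗ₜ[k] (1 : SLn 2 k)) :
    (Algebra.TensorProduct.map (AlgHom.id k (MvPolynomial I k)) (uPt k))
      (corepAlg k c (evC k I F)) = evC k I F ⊗ₜ[k] (1 : Polynomial k) := by
  have key : ((Algebra.TensorProduct.map (AlgHom.id k (MvPolynomial I k)) (uPt k)).comp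
      (corepAlg k c)).comp (evC k I) =
      (Algebra.TensorProduct.map (evC k I) (uH k)).comp (corepAlg k (cH c)) := by
    apply MvPolynomial.algHom_ext
    rintro (m | i)
    · simp only [AlgHom.comp_apply, evC, MvPolynomial.aeval_X, Sum.elim_inl, corepAlg_X,
        Fintype.sum_sum_type, cH_inl_inl, cH_inr_inl, TensorProduct.tmul_zero,
        Finset.sum_const_zero, add_zero, map_sum, Algebra.TensorProduct.map_tmul, AlgHom.id_apply]
      refine Finset.sum_congr rfl fun x _ => ?_
      rw [uH_slHom]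
    · simp only [AlgHom.comp_apply, evC, MvPolynomial.aeval_X, Sum.elim_inr, corepAlg_X,
        Fintype.sum_sum_type, cH_inl_inr, cH_inr_inr, TensorProduct.tmul_zero,
        Finset.sum_const_zero, zero_add, map_sum, Algebra.TensorProduct.map_tmul, Sum.elim_inl,
        Fin.sum_univ_two, uH_X]
      rw [← MvPolynomial.algebraMap_eq, AlgHom.commutes, AlgHom.commutes]
      fin_cases i <;> simp [Algebra.TensorProduct.algebraMap_apply, uH_X]
  have := congrArg (fun φ => φ F) key
  simp only [AlgHom.comp_apply] at this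
  rw [this, hF, Algebra.TensorProduct.map_tmul, map_one]

variable (k) in
/-- Right translation by the additive group. -/
noncomputable def rTrans : Mat 2 k →ₐ[k] Mat 2 k ⊗[k] Polynomial k :=
  (Algebra.TensorProduct.map (AlgHom.id k (Mat 2 k)) (uPt k)).comp
    (Bialgebra.comulAlgHom k (Mat 2 k))

lemma mem_range_kappa_of_rTrans (θ : Mat 2 k)
    (h : rTrans k θ = θ ⊗ₜ[k] (1 : Polynomial k)) : θ ∈ (kappa k).range := by
  apply mem_range_kappa
  intro t₀
  let E : Mat 2 k ⊗[k] Polynomial k →ₐ[k] FractionRing (Mat 2 k) :=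
    Algebra.TensorProduct.lift (IsScalarTower.toAlgHom k (Mat 2 k) (FractionRing (Mat 2 k)))
      (Polynomial.aeval t₀) (fun _ _ => Commute.all _ _)
  have h1 : E.comp (rTrans k) = Mat.aeval 2 k
      !![algebraMap (Mat 2 k) (FractionRing (Mat 2 k)) (Mat.X 0 0),
           algebraMap (Mat 2 k) (FractionRing (Mat 2 k)) (Mat.X 0 1) +
            t₀ * algebraMap (Mat 2 k) (FractionRing (Mat 2 k)) (Mat.X 0 0);
           algebraMap (Mat 2 k) (FractionRing (Mat 2 k)) (Mat.X 1 0),
           algebraMap (Mat 2 k) (FractionRing (Mat 2 k)) (Mat.X 1 1) +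
            t₀ * algebraMap (Mat 2 k) (FractionRing (Mat 2 k)) (Mat.X 1 0)] := by
    apply Mat.algHom_ext
    intro i j
    simp only [AlgHom.comp_apply, rTrans, Bialgebra.comulAlgHom_apply, Mat.comul_X,
      Fin.sum_univ_two, map_add, Algebra.TensorProduct.map_tmul, AlgHom.id_apply, E,
      Algebra.TensorProduct.lift_tmul, IsScalarTower.coe_toAlgHom', uPt, Mat.aeval_X]
    fin_cases i <;> fin_cases j <;> simp <;> ring
  have h2 := congrArg E h
  rw [← AlgHom.comp_apply, h1] at h2
  rw [h2]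
  simp [E]

variable {c} in
lemma rTrans_corepAlg (f : MvPolynomial I k) (hc : IsCorep (k := k) c)
    (hf : (Algebra.TensorProduct.map (AlgHom.id k (MvPolynomial I k)) (uPt k))
      (corepAlg k c f) = f ⊗ₜ[k] (1 : Polynomial k)) :
    (Algebra.TensorProduct.map (AlgHom.id k (MvPolynomial I k)) (rTrans k)) (corepAlg k c f) =
      (Algebra.TensorProduct.map (AlgHom.id k (MvPolynomial I k))
        (Algebra.TensorProduct.includeLeft : Mat 2 k →ₐ[k] Mat 2 k ⊗[k] Polynomial k))
        (corepAlg k c f) := by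
  have key : (Algebra.TensorProduct.map (AlgHom.id k (MvPolynomial I k)) (rTrans k)).comp
      (corepAlg k c) =
      (Algebra.TensorProduct.assoc k k k (MvPolynomial I k) (Mat 2 k) (Polynomial k)).toAlgHom.comp
        ((Algebra.TensorProduct.map (corepAlg k c) (AlgHom.id k (Polynomial k))).comp
          ((Algebra.TensorProduct.map (AlgHom.id k (MvPolynomial I k)) (uPt k)).comp
            (corepAlg k c))) := by
    apply MvPolynomial.algHom_ext
    intro m
    simp only [AlgHom.comp_apply, corepAlg_X, map_sum, Algebra.TensorProduct.map_tmul,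
      AlgHom.id_apply, AlgHom.coe_coe, TensorProduct.sum_tmul, TensorProduct.tmul_sum,
      Algebra.TensorProduct.assoc_tmul, rTrans, Bialgebra.comulAlgHom_apply, hc.comul]
    exact Finset.sum_comm
  have key2 : (Algebra.TensorProduct.assoc k k k (MvPolynomial I k) (Mat 2 k)
      (Polynomial k)).toAlgHom.comp
      (Algebra.TensorProduct.includeLeft :
        MvPolynomial I k ⊗[k] Mat 2 k →ₐ[k] (MvPolynomial I k ⊗[k] Mat 2 k) ⊗[k] Polynomial k) =
      Algebra.TensorProduct.map (AlgHom.id k (MvPolynomial I k))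
        (Algebra.TensorProduct.includeLeft : Mat 2 k →ₐ[k] Mat 2 k ⊗[k] Polynomial k) := by
    apply Algebra.TensorProduct.ext'
    intro r a
    simp
  have h1 := congrArg (fun φ => φ f) key
  simp only [AlgHom.comp_apply] at h1
  rw [h1, hf, Algebra.TensorProduct.map_tmul, AlgHom.id_apply]
  exact congrArg (fun φ => φ (corepAlg k c f)) key2

lemma exists_lTensor_kappa (x : MvPolynomial I k ⊗[k] Mat 2 k)
    (hx : (Algebra.TensorProduct.map (AlgHom.id k (MvPolynomial I k)) (rTrans k)) x =
      (Algebra.TensorProduct.map (AlgHom.id k (MvPolynomial I k))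
        (Algebra.TensorProduct.includeLeft : Mat 2 k →ₐ[k] Mat 2 k ⊗[k] Polynomial k)) x) :
    ∃ Q : MvPolynomial I k ⊗[k] MvPolynomial (Fin 3) k,
      (Algebra.TensorProduct.map (AlgHom.id k (MvPolynomial I k)) (kappa k)) Q = x := by
  let g : Mat 2 k →ₗ[k] Mat 2 k ⊗[k] Polynomial k :=
    (rTrans k).toLinearMap -
      (Algebra.TensorProduct.includeLeft : Mat 2 k →ₐ[k] Mat 2 k ⊗[k] Polynomial k).toLinearMap
  have hgx : LinearMap.lTensor (MvPolynomial I k) g x = 0 := by
    rw [LinearMap.lTensor_sub, LinearMap.sub_apply, sub_eq_zero]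
    exact hx
  have hex := Module.Flat.lTensor_exact (MvPolynomial I k) (LinearMap.exact_subtype_ker_map g)
  obtain ⟨y, hy⟩ := (hex x).mp hgx
  rw [← hy]
  clear hy hgx hx
  induction y using TensorProduct.induction_on with
  | zero => exact ⟨0, by simp⟩
  | tmul r θ =>
    obtain ⟨θ, hθ⟩ := θ
    have hθ' : rTrans k θ = θ ⊗ₜ[k] (1 : Polynomial k) := by
      have := LinearMap.mem_ker.mp hθ
      simp only [g, LinearMap.sub_apply, sub_eq_zero] at this
      exact this
    obtain ⟨q, hq⟩ := mem_range_kappa_of_rTrans θ hθ'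
    refine ⟨r ⊗ₜ[k] q, ?_⟩
    rw [Algebra.TensorProduct.map_tmul, LinearMap.lTensor_tmul]
    simp only [AlgHom.id_apply, Submodule.subtype_apply]
    rw [← hq]
    rfl
  | add y₁ y₂ h₁ h₂ =>
    obtain ⟨Q₁, hQ₁⟩ := h₁
    obtain ⟨Q₂, hQ₂⟩ := h₂
    exact ⟨Q₁ + Q₂, by rw [map_add, map_add, hQ₁, hQ₂]⟩

/-! ### Structure of `SL₂` -/

lemma comul_SLX (i j : Fin 2) :
    CoalgebraStruct.comul (R := k) (SLn.X i j : SLn 2 k) = ∑ l, SLn.X i l ⊗ₜ[k] SLn.X l j := by
  have h := (isCorep_matX (k := k)).map (slHom k 2)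
  have h2 := h.comul i j
  simp only [slHom_X] at h2
  exact h2

lemma counit_SLX (i j : Fin 2) :
    CoalgebraStruct.counit (R := k) (SLn.X i j : SLn 2 k) = if i = j then (1 : k) else 0 := by
  have h := (isCorep_matX (k := k)).map (slHom k 2)
  have h2 := h.counit i j
  simp only [slHom_X] at h2
  exact h2

lemma det_SL : (SLn.X 0 0 : SLn 2 k) * SLn.X 1 1 - SLn.X 0 1 * SLn.X 1 0 = 1 := by
  have h := matOf_det (AlgHom.id k (SLn 2 k))
  rw [Matrix.det_fin_two] at h
  exact h

lemma slHom_det : slHom k 2 (Mat.det 2 k) = 1 := by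
  rw [det_two, map_sub, map_mul, map_mul, slHom_X, slHom_X, slHom_X, slHom_X]
  exact det_SL

lemma antipode_SLX (i j : Fin 2) :
    HopfAlgebraStruct.antipode (R := k) (SLn.X i j : SLn 2 k) =
      (!![SLn.X 1 1, -SLn.X 0 1; -SLn.X 1 0, SLn.X 0 0] : Matrix (Fin 2) (Fin 2) (SLn 2 k)) i j := by
  change SLn.mk 2 k (HopfAlgebraStruct.antipode (R := k) (GLn.X i j : GLn 2 k)) = _
  rw [GLn.antipode_X, map_mul, mk_Dinv, one_mul, Matrix.adjugate_fin_two]
  fin_cases i <;> fin_cases j <;> simp [GLn.genMat, SLn.X]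

lemma antipodeAlgHom_apply' {B : Type u} [CommRing B] [HopfAlgebra k B] (b : B) :
    HopfAlgebra.antipodeAlgHom k B b = HopfAlgebraStruct.antipode (R := k) b := rfl

theorem IsCorep.sum_mul_antipode {B : Type u} [CommRing B] [HopfAlgebra k B] {c' : I → I → B}
    (hc' : IsCorep (k := k) c') (p q : I) :
    ∑ l, c' p l * HopfAlgebraStruct.antipode (R := k) (c' l q) = if p = q then 1 else 0 := by
  have h := HopfAlgebra.mul_antipode_lTensor_comul_apply (R := k) (c' p q)
  rw [hc'.comul, map_sum, map_sum, hc'.counit] at h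
  simp only [LinearMap.lTensor_tmul, LinearMap.mul'_apply] at h
  rw [h]
  split_ifs <;> simp

/-! ### The orbit map and the descent -/

variable (k I) in
/-- The orbit map `C → R ⊗ H`. -/
noncomputable def lamC : MvPolynomial (I ⊕ Fin 2) k →ₐ[k] MvPolynomial I k ⊗[k] SLn 2 k :=
  MvPolynomial.aeval (Sum.elim (fun m => MvPolynomial.X m ⊗ₜ[k] (1 : SLn 2 k))
    (fun i => (1 : MvPolynomial I k) ⊗ₜ[k] (![-SLn.X 1 0, SLn.X 0 0] : Fin 2 → SLn 2 k) i))

@[simp] lemma lamC_inl (m : I) :
    lamC k I (MvPolynomial.X (Sum.inl m)) = MvPolynomial.X m ⊗ₜ[k] (1 : SLn 2 k) := by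
  simp [lamC]

@[simp] lemma lamC_inr (i : Fin 2) :
    lamC k I (MvPolynomial.X (Sum.inr i)) =
      (1 : MvPolynomial I k) ⊗ₜ[k] (![-SLn.X 1 0, SLn.X 0 0] : Fin 2 → SLn 2 k) i := by
  simp [lamC]

variable (k I) in
/-- From `R ⊗ k[z,x,y]` to `C`: `z ↦ 1`, `x ↦ x₁`, `y ↦ -x₀`. -/
noncomputable def descC :
    MvPolynomial I k ⊗[k] MvPolynomial (Fin 3) k →ₐ[k] MvPolynomial (I ⊕ Fin 2) k :=
  Algebra.TensorProduct.lift (MvPolynomial.rename Sum.inl)
    (MvPolynomial.aeval ![1, MvPolynomial.X (Sum.inr 1), -MvPolynomial.X (Sum.inr 0)])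
    (fun _ _ => Commute.all _ _)

lemma coe_slHom_apply (q : Mat 2 k) :
    ((slHom k 2 : Mat 2 k →ₐc[k] SLn 2 k) : Mat 2 k →ₐ[k] SLn 2 k) q = slHom k 2 q := rfl

lemma lamC_comp_descC : (lamC k I).comp (descC k I) =
    Algebra.TensorProduct.map (AlgHom.id k (MvPolynomial I k))
      ((slHom k 2 : Mat 2 k →ₐ[k] SLn 2 k).comp (kappa k)) := by
  have h1 : (lamC k I).comp (MvPolynomial.rename Sum.inl) =
      (Algebra.TensorProduct.includeLeft : MvPolynomial I k →ₐ[k] MvPolynomial I k ⊗[k] SLn 2 k) := by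
    apply MvPolynomial.algHom_ext
    intro m
    simp
  have h2 : (lamC k I).comp
      (MvPolynomial.aeval ![1, MvPolynomial.X (Sum.inr 1), -MvPolynomial.X (Sum.inr 0)]) =
      (Algebra.TensorProduct.includeRight : SLn 2 k →ₐ[k] MvPolynomial I k ⊗[k] SLn 2 k).comp
        ((slHom k 2 : Mat 2 k →ₐ[k] SLn 2 k).comp (kappa k)) := by
    apply MvPolynomial.algHom_ext
    intro i
    fin_cases i
    · simp only [Fin.zero_eta, AlgHom.comp_apply, MvPolynomial.aeval_X, Matrix.cons_val_zero,
        map_one, kappa, coe_slHom_apply, slHom_det]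
    · simp only [Fin.mk_one, AlgHom.comp_apply, MvPolynomial.aeval_X, Matrix.cons_val_one,
        Matrix.cons_val_zero, kappa, coe_slHom_apply, lamC_inr, slHom_X,
        Algebra.TensorProduct.includeRight_apply]
    · simp only [AlgHom.comp_apply, MvPolynomial.aeval_X, kappa, coe_slHom_apply,
        Algebra.TensorProduct.includeRight_apply]
      simp [TensorProduct.tmul_neg]
      rfl
  apply Algebra.TensorProduct.ext'
  intro r q
  rw [AlgHom.comp_apply, descC, Algebra.TensorProduct.lift_tmul, map_mul,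
    ← AlgHom.comp_apply (lamC k I), h1, ← AlgHom.comp_apply (lamC k I), h2,
    Algebra.TensorProduct.map_tmul]
  simp

lemma counit_slHom (q : Mat 2 k) :
    CoalgebraStruct.counit (R := k) (slHom k 2 q) = CoalgebraStruct.counit (R := k) q := by
  have h := CoalgHomClass.counit_comp (R := k) (slHom k 2)
  exact congrArg (fun f => f q) h

lemma evC_eq : evC k I = (Algebra.TensorProduct.rid k k (MvPolynomial I k)).toAlgHom.comp
    ((Algebra.TensorProduct.map (AlgHom.id k (MvPolynomial I k))
      (Bialgebra.counitAlgHom k (SLn 2 k))).comp (lamC k I)) := by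
  apply MvPolynomial.algHom_ext
  rintro (m | i)
  · simp [evC]
  · fin_cases i <;> simp [evC, Bialgebra.counitAlgHom_apply, counit_SLX]

/-! ### Invariance of the descended function -/

variable (k I) in
/-- The inclusion of `C` in its fraction field. -/
noncomputable def iotaC :
    MvPolynomial (I ⊕ Fin 2) k →ₐ[k] FractionRing (MvPolynomial (I ⊕ Fin 2) k) :=
  IsScalarTower.toAlgHom k _ _

lemma iotaC_injective : Function.Injective (iotaC k I) :=
  IsFractionRing.injective (MvPolynomial (I ⊕ Fin 2) k) (FractionRing (MvPolynomial (I ⊕ Fin 2) k))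

lemma iotaC_X_ne_zero (j : I ⊕ Fin 2) : iotaC k I (MvPolynomial.X j) ≠ 0 := by
  intro h
  have : (MvPolynomial.X j : MvPolynomial (I ⊕ Fin 2) k) = 0 :=
    iotaC_injective (by rw [h, map_zero])
  exact MvPolynomial.X_ne_zero j this

variable (k I) in
/-- The generic point of `SL₂` whose orbit map recovers the two extra coordinates. -/
noncomputable def g0 : SLn 2 k →ₐ[k] FractionRing (MvPolynomial (I ⊕ Fin 2) k) :=
  SLn.pt 2 k !![iotaC k I (MvPolynomial.X (Sum.inr 1)), 0;
      -iotaC k I (MvPolynomial.X (Sum.inr 0)), (iotaC k I (MvPolynomial.X (Sum.inr 1)))⁻¹] (by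
    rw [Matrix.det_fin_two]
    simp only [Matrix.of_apply, Matrix.cons_val', Matrix.cons_val_zero, Matrix.cons_val_one,
      Matrix.cons_val_fin_one, zero_mul, sub_zero]
    exact mul_inv_cancel₀ (iotaC_X_ne_zero _))

lemma g0_X (i j : Fin 2) : g0 k I (SLn.X i j) =
    (!![iotaC k I (MvPolynomial.X (Sum.inr 1)), 0;
      -iotaC k I (MvPolynomial.X (Sum.inr 0)), (iotaC k I (MvPolynomial.X (Sum.inr 1)))⁻¹] :
      Matrix (Fin 2) (Fin 2) (FractionRing (MvPolynomial (I ⊕ Fin 2) k))) i j := by
  rw [g0, SLn.pt_X]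

variable (k I) in
/-- Evaluation of `R ⊗ H` at the generic point. -/
noncomputable def psiK :
    MvPolynomial I k ⊗[k] SLn 2 k →ₐ[k] FractionRing (MvPolynomial (I ⊕ Fin 2) k) :=
  Algebra.TensorProduct.productMap ((iotaC k I).comp (MvPolynomial.rename Sum.inl)) (g0 k I)

lemma psiK_tmul (r : MvPolynomial I k) (h : SLn 2 k) :
    psiK k I (r ⊗ₜ[k] h) = iotaC k I (MvPolynomial.rename Sum.inl r) * g0 k I h := by
  rw [psiK, Algebra.TensorProduct.productMap_apply_tmul]
  rfl

lemma psiK_comp_lamC : (psiK k I).comp (lamC k I) = iotaC k I := by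
  apply MvPolynomial.algHom_ext
  rintro (m | i)
  · rw [AlgHom.comp_apply, lamC_inl, psiK_tmul, map_one, mul_one, MvPolynomial.rename_X]
  · rw [AlgHom.comp_apply, lamC_inr, psiK_tmul, map_one, map_one, one_mul]
    fin_cases i <;> simp [g0_X]

/-- First component of the diagonal coaction, evaluated at the generic point. -/
noncomputable def diagL :
    MvPolynomial I k →ₐ[k] FractionRing (MvPolynomial (I ⊕ Fin 2) k) ⊗[k] SLn 2 k :=
  (Algebra.TensorProduct.map ((iotaC k I).comp (MvPolynomial.rename Sum.inl))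
      (AlgHom.id k (SLn 2 k))).comp (corepAlg k (fun l m => slHom k 2 (c l m)))

variable (k I) in
/-- Second component of the diagonal coaction, evaluated at the generic point. -/
noncomputable def diagR :
    SLn 2 k →ₐ[k] FractionRing (MvPolynomial (I ⊕ Fin 2) k) ⊗[k] SLn 2 k :=
  (Algebra.TensorProduct.map (g0 k I) (HopfAlgebra.antipodeAlgHom k (SLn 2 k))).comp
    ((Algebra.TensorProduct.comm k (SLn 2 k) (SLn 2 k)).toAlgHom.comp
      (Bialgebra.comulAlgHom k (SLn 2 k)))

/-- The diagonal coaction on `R ⊗ H`, evaluated at the generic point. -/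
noncomputable def diagD :
    MvPolynomial I k ⊗[k] SLn 2 k →ₐ[k] FractionRing (MvPolynomial (I ⊕ Fin 2) k) ⊗[k] SLn 2 k :=
  Algebra.TensorProduct.productMap (diagL c) (diagR k I)

lemma diagD_tmul (r : MvPolynomial I k) (h : SLn 2 k) :
    diagD c (r ⊗ₜ[k] h) = diagL c r * diagR k I h := by
  rw [diagD, Algebra.TensorProduct.productMap_apply_tmul]

lemma diagD_tmul_one (r : MvPolynomial I k) :
    diagD c (r ⊗ₜ[k] (1 : SLn 2 k)) = diagL c r := by
  rw [diagD_tmul, map_one, mul_one]

lemma diagD_one_tmul (h : SLn 2 k) :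
    diagD c ((1 : MvPolynomial I k) ⊗ₜ[k] h) = diagR k I h := by
  rw [diagD_tmul, map_one, one_mul]

lemma diagL_X (m : I) : diagL c (MvPolynomial.X m) =
    ∑ l, iotaC k I (MvPolynomial.X (Sum.inl l)) ⊗ₜ[k] slHom k 2 (c l m) := by
  rw [diagL, AlgHom.comp_apply, corepAlg_X, map_sum]
  refine Finset.sum_congr rfl fun l _ => ?_
  rw [Algebra.TensorProduct.map_tmul, AlgHom.comp_apply, MvPolynomial.rename_X]
  rfl

lemma diagR_apply (h : SLn 2 k) : diagR k I h =
    (Algebra.TensorProduct.map (g0 k I) (HopfAlgebra.antipodeAlgHom k (SLn 2 k)))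
      (Algebra.TensorProduct.comm k (SLn 2 k) (SLn 2 k) (CoalgebraStruct.comul (R := k) h)) := rfl

lemma diagR_X (i j : Fin 2) : diagR k I (SLn.X i j) =
    ∑ l, g0 k I (SLn.X l j) ⊗ₜ[k]
      (!![SLn.X 1 1, -SLn.X 0 1; -SLn.X 1 0, SLn.X 0 0] : Matrix (Fin 2) (Fin 2) (SLn 2 k)) i l := by
  rw [diagR_apply, comul_SLX, map_sum, map_sum]
  refine Finset.sum_congr rfl fun l _ => ?_
  rw [Algebra.TensorProduct.comm_tmul, Algebra.TensorProduct.map_tmul, antipodeAlgHom_apply',
    antipode_SLX]

variable {c} in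
lemma diagR_corep (hc : IsCorep (k := k) c) (l m : I) : diagR k I (slHom k 2 (c l m)) =
    ∑ q, g0 k I (slHom k 2 (c q m)) ⊗ₜ[k]
      HopfAlgebraStruct.antipode (R := k) (slHom k 2 (c l q)) := by
  rw [diagR_apply, (hc.map (slHom k 2)).comul, map_sum, map_sum]
  refine Finset.sum_congr rfl fun q _ => ?_
  rw [Algebra.TensorProduct.comm_tmul, Algebra.TensorProduct.map_tmul, antipodeAlgHom_apply']

lemma diagD_comp_lamC : (diagD c).comp (lamC k I) =
    (Algebra.TensorProduct.map (iotaC k I) (AlgHom.id k (SLn 2 k))).comp (corepAlg k (cH c)) := by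
  apply MvPolynomial.algHom_ext
  rintro (m | i)
  · rw [AlgHom.comp_apply, lamC_inl, diagD_tmul_one, diagL_X, AlgHom.comp_apply, corepAlg_X,
      map_sum, Fintype.sum_sum_type]
    simp
  · rw [AlgHom.comp_apply, lamC_inr, diagD_one_tmul, AlgHom.comp_apply, corepAlg_X,
      map_sum, Fintype.sum_sum_type]
    simp only [cH_inl_inr, cH_inr_inr, TensorProduct.tmul_zero, map_zero,
      Finset.sum_const_zero, zero_add, Algebra.TensorProduct.map_tmul, AlgHom.id_apply,
      Fin.sum_univ_two]
    fin_cases i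
    · simp only [Fin.zero_eta, Matrix.cons_val_zero, map_neg, diagR_X, Fin.sum_univ_two, g0_X]
      simp [TensorProduct.tmul_neg, TensorProduct.neg_tmul]
    · simp only [Fin.mk_one, Matrix.cons_val_one, Matrix.cons_val_zero, diagR_X,
        Fin.sum_univ_two, g0_X]
      simp [TensorProduct.tmul_neg, TensorProduct.neg_tmul]
      abel

variable {c} in
lemma diagD_corepAlg (hc : IsCorep (k := k) c) :
    (diagD c).comp (corepAlg k (fun l m => slHom k 2 (c l m))) =
      (Algebra.TensorProduct.includeLeft :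
        FractionRing (MvPolynomial (I ⊕ Fin 2) k) →ₐ[k]
          FractionRing (MvPolynomial (I ⊕ Fin 2) k) ⊗[k] SLn 2 k).comp
        ((psiK k I).comp (corepAlg k (fun l m => slHom k 2 (c l m)))) := by
  apply MvPolynomial.algHom_ext
  intro m
  rw [AlgHom.comp_apply, corepAlg_X, map_sum, AlgHom.comp_apply, AlgHom.comp_apply, corepAlg_X,
    map_sum, map_sum]
  simp only [diagD_tmul, diagL_X, diagR_corep hc, Finset.sum_mul, Finset.mul_sum,
    Algebra.TensorProduct.tmul_mul_tmul, psiK_tmul, MvPolynomial.rename_X,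
    Algebra.TensorProduct.includeLeft_apply]
  rw [Finset.sum_comm]
  refine Finset.sum_congr rfl fun p _ => ?_
  rw [Finset.sum_comm]
  simp only [← TensorProduct.tmul_sum, (hc.map (slHom k 2)).sum_mul_antipode]
  simp [TensorProduct.tmul_ite]

variable {c} in
/-- The transfer principle, hard direction: an invariant of the additive group is the
restriction of an invariant of `SL₂`. -/
theorem exists_fixed (hc : IsCorep (k := k) c) (f : MvPolynomial I k)
    (hf : (Algebra.TensorProduct.map (AlgHom.id k (MvPolynomial I k)) (uPt k))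
      (corepAlg k c f) = f ⊗ₜ[k] (1 : Polynomial k)) :
    ∃ F : MvPolynomial (I ⊕ Fin 2) k,
      corepAlg k (cH c) F = F ⊗ₜ[k] (1 : SLn 2 k) ∧ evC k I F = f := by
  obtain ⟨Q, hQ⟩ := exists_lTensor_kappa (corepAlg k c f) (rTrans_corepAlg f hc hf)
  refine ⟨descC k I Q, ?_, ?_⟩
  all_goals
    have hΛ : lamC k I (descC k I Q) = corepAlg k (fun l m => slHom k 2 (c l m)) f := by
      rw [← AlgHom.comp_apply, lamC_comp_descC]
      have h1 : (Algebra.TensorProduct.map (AlgHom.id k (MvPolynomial I k))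
          ((slHom k 2 : Mat 2 k →ₐ[k] SLn 2 k).comp (kappa k))) =
          (Algebra.TensorProduct.map (AlgHom.id k (MvPolynomial I k))
            (slHom k 2 : Mat 2 k →ₐ[k] SLn 2 k)).comp
            (Algebra.TensorProduct.map (AlgHom.id k (MvPolynomial I k)) (kappa k)) := by
        apply Algebra.TensorProduct.ext'
        intro r q
        simp
      rw [h1, AlgHom.comp_apply, hQ]
      exact corepAlg_map_apply (slHom k 2 : Mat 2 k →ₐ[k] SLn 2 k) c f
  · -- invariance
    have hinj : Function.Injective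
        (Algebra.TensorProduct.map (iotaC k I) (AlgHom.id k (SLn 2 k))) := by
      have := Module.Flat.rTensor_preserves_injective_linearMap (M := SLn 2 k)
        (iotaC k I).toLinearMap iotaC_injective
      exact this
    apply hinj
    have e1 := congrArg (fun φ => φ (descC k I Q)) (diagD_comp_lamC c)
    simp only [AlgHom.comp_apply] at e1
    rw [← e1, hΛ]
    have e2 := congrArg (fun φ => φ f) (diagD_corepAlg hc)
    simp only [AlgHom.comp_apply] at e2
    rw [e2, ← hΛ, ← AlgHom.comp_apply (psiK k I), psiK_comp_lamC,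
      Algebra.TensorProduct.map_tmul, map_one]
    rfl
  · -- restriction
    rw [evC_eq, AlgHom.comp_apply, AlgHom.comp_apply, hΛ]
    exact congrArg (fun φ => φ f) (corepAlg_counit (hc.map (slHom k 2)))

end Transfer



end Groth.Agent.H83.Weitz
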